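import Groth.Agent.SymAlgX.Ring
import Mathlib.RingTheory.GradedAlgebra.Basic
import Mathlib.RingTheory.GradedAlgebra.RingHom

/-!
The grading of a symmetric algebra by powers of the generators; transport of gradings along
ring isomorphisms.
-/

universe u v

open DirectSum

namespace Groth.Agent.SymAlgX

section transport

variable {A : Type u} {B : Type v} [CommRing A] [CommRing B] (e : A ≃+* B)
  (ℬ : ℕ → AddSubgroup B) [GradedRing ℬ]

/-- The pullback of a grading along a ring isomorphism. -/
def degComap (i : ℕ) : AddSubgroup A := (ℬ i).comap e.toRingHom.toAddMonoidHom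

theorem mem_degComap {i : ℕ} {a : A} : a ∈ degComap e ℬ i ↔ e a ∈ ℬ i := Iff.rfl

instance gradedMonoid_degComap : SetLike.GradedMonoid (degComap e ℬ) where
  one_mem := by rw [mem_degComap, map_one]; exact SetLike.one_mem_graded ℬ
  mul_mem i j a b ha hb := by
    rw [mem_degComap, map_mul]; exact SetLike.mul_mem_graded ha hb

/-- The pieces correspond. -/
def degEquiv (i : ℕ) : ℬ i →+ degComap e ℬ i where
  toFun b := ⟨e.symm b.1, by rw [mem_degComap, e.apply_symm_apply]; exact b.2⟩
  map_zero' := Subtype.ext (map_zero e.symm)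
  map_add' a b := Subtype.ext (map_add e.symm a.1 b.1)

theorem coe_map_degEquiv (x : ⨁ i, ℬ i) :
    (DirectSum.coeAddMonoidHom (degComap e ℬ)) (DirectSum.map (degEquiv e ℬ) x) =
      e.symm (DirectSum.coeAddMonoidHom ℬ x) := by
  induction x using DirectSum.induction_on with
  | zero => simp
  | of i b => simp [degEquiv]
  | add x y hx hy => simp [hx, hy]

/-- The pulled back grading is a graded ring. -/
@[implicit_reducible]
noncomputable def gradedRingDegComap : GradedRing (degComap e ℬ) :=
  { gradedMonoid_degComap e ℬ,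
    DirectSum.Decomposition.ofAddHom (degComap e ℬ)
      ((DirectSum.map (degEquiv e ℬ)).comp
        ((DirectSum.decomposeAddEquiv ℬ).toAddMonoidHom.comp e.toRingHom.toAddMonoidHom))
      (by
        ext a
        show DirectSum.coeAddMonoidHom (degComap e ℬ)
          (DirectSum.map (degEquiv e ℬ) (DirectSum.decompose ℬ (e a))) = a
        rw [coe_map_degEquiv, show DirectSum.coeAddMonoidHom ℬ (DirectSum.decompose ℬ (e a)) = e a
          from (DirectSum.decompose ℬ).symm_apply_apply _, e.symm_apply_apply])
      (by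
        refine DirectSum.addHom_ext fun i a => ?_
        show DirectSum.map (degEquiv e ℬ) (DirectSum.decompose ℬ
          (e (DirectSum.coeAddMonoidHom (degComap e ℬ) (DirectSum.of _ i a)))) = _
        rw [DirectSum.coeAddMonoidHom_of,
          DirectSum.decompose_of_mem ℬ (show e (a : A) ∈ ℬ i from a.2), DirectSum.map_of]
        exact congrArg _ (Subtype.ext (e.symm_apply_apply _))) with }

end transport

variable (R : Type*) [CommRing R] (M : Type*) [AddCommGroup M] [Module R M]

/-- The degree `n` part of a symmetric algebra. -/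
noncomputable def symDeg (n : ℕ) : Submodule R (SymmetricAlgebra R M) :=
  LinearMap.range (SymmetricAlgebra.ι R M) ^ n

theorem algebraMap_mem_symDeg (r : R) : algebraMap R _ r ∈ symDeg R M 0 := by
  rw [symDeg, pow_zero]; exact Submodule.algebraMap_mem r

theorem ι_mem_symDeg (x : M) : SymmetricAlgebra.ι R M x ∈ symDeg R M 1 := by
  rw [symDeg, pow_one]; exact LinearMap.mem_range_self _ x

instance gradedMonoid_symDeg : SetLike.GradedMonoid (symDeg R M) := by
  unfold symDeg; exact Submodule.nat_power_gradedMonoid _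

/-- The generators, mapping into the direct sum of the pieces. -/
noncomputable def gradedι : M →ₗ[R] ⨁ i : ℕ, symDeg R M i :=
  DirectSum.lof R ℕ (fun i => symDeg R M i) 1 ∘ₗ
    (SymmetricAlgebra.ι R M).codRestrict _ (ι_mem_symDeg R M)

theorem lift_gradedι (i : ℕ) (x : symDeg R M i) :
    SymmetricAlgebra.lift (gradedι R M) (x : SymmetricAlgebra R M) =
      DirectSum.of (fun i => symDeg R M i) i x := by
  obtain ⟨x, hx⟩ := x
  induction hx using Submodule.pow_induction_on_left' with
  | algebraMap r => rw [AlgHom.commutes, DirectSum.algebraMap_apply]; rfl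
  | add x y i hx hy ihx ihy => rw [map_add, ihx, ihy, ← map_add]; rfl
  | mem_mul m hm i x hx ih =>
    obtain ⟨_, rfl⟩ := hm
    rw [map_mul, ih, SymmetricAlgebra.lift_ι_apply]
    show DirectSum.of (fun i => symDeg R M i) 1 _ * _ = _
    rw [DirectSum.of_mul_of]
    exact DirectSum.of_eq_of_gradedMonoid_eq (Sigma.subtype_ext (add_comm _ _) rfl)

/-- A symmetric algebra is graded by powers of the generators. -/
noncomputable instance gradedAlgebra_symDeg : GradedAlgebra (symDeg R M) :=
  GradedAlgebra.ofAlgHom _ (SymmetricAlgebra.lift (gradedι R M))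
    (by
      apply SymmetricAlgebra.algHom_ext
      refine LinearMap.ext fun m => ?_
      show DirectSum.coeAlgHom (symDeg R M)
        (SymmetricAlgebra.lift (gradedι R M) (SymmetricAlgebra.ι R M m)) = SymmetricAlgebra.ι R M m
      rw [SymmetricAlgebra.lift_ι_apply]
      exact DirectSum.coeAlgHom_of (symDeg R M) 1 _)
    (lift_gradedι R M)

/-- The grading as additive subgroups. -/
noncomputable def symDegAdd (n : ℕ) : AddSubgroup (SymmetricAlgebra R M) :=
  (symDeg R M n).toAddSubgroup

noncomputable instance gradedRing_symDegAdd : GradedRing (symDegAdd R M) :=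
  { one_mem := SetLike.one_mem_graded (symDeg R M)
    mul_mem := fun _ _ _ _ ha hb => SetLike.mul_mem_graded (A := symDeg R M) ha hb
    decompose' := DirectSum.decompose (symDeg R M)
    left_inv := (DirectSum.decompose (symDeg R M)).symm_apply_apply
    right_inv := (DirectSum.decompose (symDeg R M)).apply_symm_apply }

variable {R M} {R' : Type*} [CommRing R'] {M' : Type*} [AddCommGroup M'] [Module R' M']

/-- A homomorphism sending scalars to degree zero and generators to degree one respects degrees. -/
theorem mem_of_mem_symDeg {A : Type*} [CommRing A] (𝒜 : ℕ → AddSubgroup A) [SetLike.GradedMonoid 𝒜]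
    (F : SymmetricAlgebra R M →+* A) (h₀ : ∀ r, F (algebraMap R _ r) ∈ 𝒜 0)
    (h₁ : ∀ x, F (SymmetricAlgebra.ι R M x) ∈ 𝒜 1) {n : ℕ} {a : SymmetricAlgebra R M}
    (ha : a ∈ symDeg R M n) : F a ∈ 𝒜 n := by
  induction ha using Submodule.pow_induction_on_left' with
  | algebraMap r => exact h₀ r
  | add x y i hx hy ihx ihy => rw [map_add]; exact add_mem ihx ihy
  | mem_mul m hm i x hx ih =>
    obtain ⟨y, rfl⟩ := hm
    rw [map_mul, Nat.succ_eq_one_add]
    exact SetLike.mul_mem_graded (h₁ y) ih

/-- A bijective degree preserving homomorphism identifies the gradings. -/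
theorem mem_deg_iff {A : Type*} [CommRing A] (𝒜 : ℕ → AddSubgroup A) [GradedRing 𝒜]
    (F : SymmetricAlgebra R M →+* A) (hF : Function.Bijective F)
    (h₀ : ∀ r, F (algebraMap R _ r) ∈ 𝒜 0) (h₁ : ∀ x, F (SymmetricAlgebra.ι R M x) ∈ 𝒜 1)
    (n : ℕ) (a : SymmetricAlgebra R M) : F a ∈ 𝒜 n ↔ a ∈ symDeg R M n := by
  refine ⟨fun ha => ?_, mem_of_mem_symDeg 𝒜 F h₀ h₁⟩
  let G : symDegAdd R M →+*ᵍ 𝒜 := { F with map_mem := fun hb => mem_of_mem_symDeg 𝒜 F h₀ h₁ hb }
  have h : G ((DirectSum.decompose (symDegAdd R M) a n : symDegAdd R M n) : SymmetricAlgebra R M) =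
      (DirectSum.decompose 𝒜 (G a) n : A) := G.map_directSumDecompose
  rw [show G a = F a from rfl, DirectSum.decompose_of_mem_same _ ha] at h
  rw [← hF.1 h]
  exact (DirectSum.decompose (symDeg R M) a n).2

end Groth.Agent.SymAlgX
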