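import Groth.Agent.SymAlgX.Sym
import Groth.Agent.AModX.Res

/-!
The universal property of the symmetric algebra; affine sections of any symmetric algebra.
-/

universe u

open CategoryTheory CategoryTheory.Limits AlgebraicGeometry TopologicalSpace Opposite

noncomputable section

namespace Groth.Agent.SymAlgX

variable {S : Scheme.{u}} {M N : S.Modules}

/-- Module maps agree if they agree on affine opens. -/
theorem modHom_ext {φ ψ : M ⟶ N}
    (h : ∀ (U : S.Opens) (_ : IsAffineOpen U) (x : Γ(M, U)), φ.app U x = ψ.app U x) : φ = ψ := by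
  refine Scheme.Modules.hom_ext _ _ fun U => ?_
  ext x
  refine AModX.eq_of_locally _ _ fun p hp => ?_
  obtain ⟨_, ⟨W, hW, rfl⟩, hpW, hWU⟩ :=
    S.isBasis_affineOpens.exists_subset_of_mem_open hp U.isOpen
  refine ⟨W, hWU, hpW, ?_⟩
  rw [← AModX.app_res, ← AModX.app_res]
  exact h W hW _

/-- A component of a map on affine opens, at its expected type. -/
def appU (β : (Scheme.AffineZariskiSite.toOpensFunctor S).op ⋙ M.presheaf ⟶
      (Scheme.AffineZariskiSite.toOpensFunctor S).op ⋙ N.presheaf) (U : S.AffineZariskiSite) :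
    Γ(M, U.toOpens) →+ Γ(N, U.toOpens) := (β.app (op U)).hom

/-- Compatible linear maps on affine opens define a module map. -/
theorem exists_modHom
    (β : (Scheme.AffineZariskiSite.toOpensFunctor S).op ⋙ M.presheaf ⟶
      (Scheme.AffineZariskiSite.toOpensFunctor S).op ⋙ N.presheaf)
    (hlin : ∀ (U : S.AffineZariskiSite) (r : Γ(S, U.toOpens)) (x : Γ(M, U.toOpens)),
      appU β U (r • x) = r • appU β U x) :
    ∃ φ : M ⟶ N, ∀ (U : S.AffineZariskiSite) (x : Γ(M, U.toOpens)),
      φ.app U.toOpens x = appU β U x := by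
  let e := Functor.IsCoverDense.restrictHomEquivHom (G := Scheme.AffineZariskiSite.toOpensFunctor S)
    (K := Opens.grothendieckTopology S) (ℱ := M.presheaf)
    (ℱ' := (⟨N.presheaf, N.isSheaf⟩ : TopCat.Sheaf AddCommGrpCat.{u} S.carrier))
  let f : M.presheaf ⟶ N.presheaf := e β
  have hf : ∀ (U : S.AffineZariskiSite) (x : Γ(M, U.toOpens)),
      (f.app (op U.toOpens)).hom x = appU β U x := fun U x =>
    CategoryTheory.congr_fun (NatTrans.congr_app (e.symm_apply_apply β) (op U)) x
  have hnat : ∀ {V W : S.Opens} (h : W ≤ V) (x : Γ(M, V)),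
      (f.app (op W)).hom (AModX.res M h x) = AModX.res N h ((f.app (op V)).hom x) :=
    fun h x => CategoryTheory.congr_fun (f.naturality (homOfLE h).op) x
  refine ⟨⟨PresheafOfModules.homMk f ?_⟩, hf⟩
  intro V (r : Γ(S, V.unop)) (x : Γ(M, V.unop))
  show (f.app (op V.unop)).hom (r • x : Γ(M, V.unop)) =
    (r • ((f.app (op V.unop)).hom x : Γ(N, V.unop)) : Γ(N, V.unop))
  refine AModX.eq_of_locally _ _ fun p hp => ?_
  obtain ⟨_, ⟨W, hW, rfl⟩, hpW, hWV⟩ :=
    S.isBasis_affineOpens.exists_subset_of_mem_open hp V.unop.isOpen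
  refine ⟨W, hWV, hpW, ?_⟩
  rw [← hnat, AModX.res_smul, AModX.res_smul, ← hnat, hf ⟨W, hW⟩, hf ⟨W, hW⟩, hlin ⟨W, hW⟩]

variable (E : S.Modules) (hE : Coh.IsQCoh E)

/-- The sections of the symmetric algebra over an affine open. -/
def symSec (U : S.Opens) (hU : IsAffineOpen U) :
    (symAlg E hE).presheaf.obj (op U) ≅ CommRingCat.of (SymmetricAlgebra Γ(S, U) Γ(E, U)) :=
  (symFun E hE).affIso.app (op ⟨U, hU⟩)

theorem symSec_str (U : S.Opens) (hU : IsAffineOpen U) (r : Γ(S, U)) :
    (symSec E hE U hU).hom.hom (((symAlg E hE).str.app (op U)).hom r) = algebraMap _ _ r :=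
  CategoryTheory.congr_fun (NatTrans.congr_app (symFun E hE).str_affIso (op ⟨U, hU⟩)) r

theorem symSec_inv_algebraMap (U : S.Opens) (hU : IsAffineOpen U) (r : Γ(S, U)) :
    (symSec E hE U hU).inv.hom (algebraMap _ _ r) = ((symAlg E hE).str.app (op U)).hom r := by
  rw [← symSec_str E hE U hU]
  exact CategoryTheory.congr_fun (symSec E hE U hU).hom_inv_id _

theorem exists_symι : ∃ j : E ⟶ (symAlg E hE).toModule,
    ∀ (U : S.AffineZariskiSite) (x : Γ(E, U.toOpens)),
      j.app U.toOpens x = (symSec E hE U.1 U.2).inv.hom (SymmetricAlgebra.ι _ _ x) := by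
  refine exists_modHom (N := (symAlg E hE).toModule) (symGen hE) fun U r x => ?_
  show (symSec E hE U.1 U.2).inv.hom (SymmetricAlgebra.ι _ _ (r • x)) =
    ((symAlg E hE).str.app (op U.toOpens)).hom r *
      (symSec E hE U.1 U.2).inv.hom (SymmetricAlgebra.ι _ _ x)
  rw [LinearMap.map_smul, Algebra.smul_def, map_mul, symSec_inv_algebraMap]

/-- The generating map into the symmetric algebra. -/
def symι : E ⟶ (symAlg E hE).toModule := (exists_symι E hE).choose

theorem symι_app (U : S.Opens) (hU : IsAffineOpen U) (x : Γ(E, U)) :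
    (symι E hE).app U x = (symSec E hE U hU).inv.hom (SymmetricAlgebra.ι _ _ x) :=
  (exists_symι E hE).choose_spec ⟨U, hU⟩ x

theorem toModuleMap_app {A B : RelSpec.QCAlg S} (ψ : A ⟶ B) (U : S.Opens) (x : Γ(A.toModule, U)) :
    (RelSpec.QCAlg.Hom.toModuleMap ψ).app U x = (ψ.hom.app (op U)).hom x := rfl

theorem isSymAlg_symAlg : RelSpec.IsSymAlg E (symAlg E hE) (symι E hE) := by
  intro B φ
  obtain ⟨ψ, hψ, huniq⟩ := (symFun E hE).existsUnique_hom B (liftAff φ) (symStr_liftAff φ)
  have key : ∀ (U : S.Opens) (hU : IsAffineOpen U),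
      ψ.hom.app (op U) = (symSec E hE U hU).hom ≫ (liftAff φ).app (op ⟨U, hU⟩) := fun U hU =>
    NatTrans.congr_app hψ (op ⟨U, hU⟩)
  refine ⟨ψ, modHom_ext fun U hU x => ?_, fun ψ' hψ' => huniq ψ' ?_⟩
  · show (ψ.hom.app (op U)).hom ((symι E hE).app U x) = φ.app U x
    rw [symι_app E hE U hU, key U hU]
    refine (congrArg ((liftAff φ).app (op ⟨U, hU⟩)).hom
      (CategoryTheory.congr_fun (symSec E hE U hU).inv_hom_id _)).trans ?_
    exact symLift_ι _ _ _ x
  · refine NatTrans.ext (funext fun U => ?_)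
    refine (cancel_epi (symSec E hE U.unop.1 U.unop.2).inv).mp ?_
    show (symSec E hE U.unop.1 U.unop.2).inv ≫ ψ'.hom.app (op U.unop.1) =
      (symSec E hE U.unop.1 U.unop.2).inv ≫ (symSec E hE U.unop.1 U.unop.2).hom ≫ (liftAff φ).app U
    rw [Iso.inv_hom_id_assoc]
    refine CommRingCat.hom_ext (sym_ringHom_ext (fun r => ?_) fun x => ?_)
    · show (ψ'.hom.app (op U.unop.1)).hom ((symSec E hE U.unop.1 U.unop.2).inv.hom _) = _
      rw [symSec_inv_algebraMap]
      exact (CategoryTheory.congr_fun (NatTrans.congr_app ψ'.comm (op U.unop.1)) r).trans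
        (symLift_algebraMap _ _ _ r).symm
    · show (ψ'.hom.app (op U.unop.1)).hom ((symSec E hE U.unop.1 U.unop.2).inv.hom _) = _
      rw [← symι_app E hE U.unop.1 U.unop.2]
      exact (congr($(hψ').app U.unop.1 x)).trans (symLift_ι (A := B.presheaf.obj (op U.unop.1)) _ _ _ x).symm

theorem exists_isSymAlg (hE : Coh.IsQCoh E) :
    ∃ (A : RelSpec.QCAlg S) (j : E ⟶ A.toModule), RelSpec.IsSymAlg E A j :=
  ⟨_, _, isSymAlg_symAlg E hE⟩

theorem toModuleMap_comp {A B C : RelSpec.QCAlg S} (φ : A ⟶ B) (ψ : B ⟶ C) :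
    RelSpec.QCAlg.Hom.toModuleMap (φ ≫ ψ) =
      RelSpec.QCAlg.Hom.toModuleMap φ ≫ RelSpec.QCAlg.Hom.toModuleMap ψ :=
  Scheme.Modules.hom_ext _ _ fun _ => rfl

theorem toModuleMap_id (A : RelSpec.QCAlg S) :
    RelSpec.QCAlg.Hom.toModuleMap (𝟙 A) = 𝟙 A.toModule :=
  Scheme.Modules.hom_ext _ _ fun _ => rfl

variable {E} {A A' : RelSpec.QCAlg S} {j : E ⟶ A.toModule} {j' : E ⟶ A'.toModule}

/-- Symmetric algebras are unique up to unique isomorphism. -/
theorem exists_iso_of_isSymAlg (h : RelSpec.IsSymAlg E A j) (h' : RelSpec.IsSymAlg E A' j') :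
    ∃ e : A ≅ A', j ≫ RelSpec.QCAlg.Hom.toModuleMap e.hom = j' := by
  obtain ⟨f, hf, -⟩ := h A' j'
  obtain ⟨g, hg, -⟩ := h' A j
  refine ⟨⟨f, g, ?_, ?_⟩, hf⟩
  · exact (h A j).unique
      (by rw [toModuleMap_comp, reassoc_of% hf, hg]) (by rw [toModuleMap_id, Category.comp_id])
  · exact (h' A' j').unique
      (by rw [toModuleMap_comp, reassoc_of% hg, hf]) (by rw [toModuleMap_id, Category.comp_id])

/-- Over an affine open, any symmetric algebra has the symmetric algebra of the sections as ring of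
sections: the canonical map is bijective. -/
theorem bijective_symLift_app (hE : Coh.IsQCoh E) (h : RelSpec.IsSymAlg E A j)
    (U : S.Opens) (hU : IsAffineOpen U) :
    Function.Bijective (symLift (A := A.presheaf.obj (op U)) (A.str.app (op U)).hom
      (j.app U).hom (fun r x => Scheme.Modules.Hom.app_smul j r x)) := by
  obtain ⟨e, he⟩ := exists_iso_of_isSymAlg (isSymAlg_symAlg E hE) h
  let e₀ : A.presheaf.obj (op U) ≅ (symAlg E hE).presheaf.obj (op U) :=
    ⟨e.inv.hom.app (op U), e.hom.hom.app (op U),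
      congr(($(e.inv_hom_id).hom).app (op U)), congr(($(e.hom_inv_id).hom).app (op U))⟩
  have key : symLift (A := A.presheaf.obj (op U)) (A.str.app (op U)).hom
      (j.app U).hom (fun r x => Scheme.Modules.Hom.app_smul j r x) =
      ((symSec E hE U hU).inv ≫ e₀.inv).hom := by
    refine sym_ringHom_ext (fun r => ?_) fun x => ?_
    · rw [symLift_algebraMap]
      show _ = (e.hom.hom.app (op U)).hom ((symSec E hE U hU).inv.hom _)
      rw [symSec_inv_algebraMap]
      exact (CategoryTheory.congr_fun (NatTrans.congr_app e.hom.comm (op U)) r).symm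
    · rw [symLift_ι]
      show _ = (e.hom.hom.app (op U)).hom ((symSec E hE U hU).inv.hom _)
      rw [← symι_app E hE U hU]
      exact (congr($(he).app U x)).symm
  rw [key]
  exact ConcreteCategory.bijective_of_isIso ((symSec E hE U hU).symm ≪≫ e₀.symm).hom

end Groth.Agent.SymAlgX
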