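import Groth.Prelude.Def_RelProj2
import Groth.Agent.SymAlgX.Universal
import Groth.Agent.SymAlgX.Grading

/-!
The graded symmetric algebra: existence, and the structure of any graded symmetric algebra over
affine opens.
-/

universe u

open CategoryTheory CategoryTheory.Limits AlgebraicGeometry TopologicalSpace Opposite

noncomputable section

namespace Groth.Agent.SymAlgX

variable {S : Scheme.{u}}

/-- The sections over an affine open as a ring isomorphism. -/
def symSecEquiv (E : S.Modules) (hE : Coh.IsQCoh E) (U : S.Opens) (hU : IsAffineOpen U) :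
    (symAlg E hE).presheaf.obj (op U) ≃+* SymmetricAlgebra Γ(S, U) Γ(E, U) :=
  (symSec E hE U hU).commRingCatIsoToRingEquiv

theorem symSecEquiv_apply (E : S.Modules) (hE : Coh.IsQCoh E) (U : S.Opens) (hU : IsAffineOpen U)
    (x : (symAlg E hE).presheaf.obj (op U)) :
    symSecEquiv E hE U hU x = (symSec E hE U hU).hom.hom x := rfl

theorem symSec_res (E : S.Modules) (hE : Coh.IsQCoh E) {U V : S.Opens} (hU : IsAffineOpen U)
    (hV : IsAffineOpen V) (h : V ≤ U) (x : (symAlg E hE).presheaf.obj (op U)) :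
    (symSec E hE V hV).hom.hom (((symAlg E hE).presheaf.map (homOfLE h).op).hom x) =
      symRes E h ((symSec E hE U hU).hom.hom x) := by
  obtain ⟨a, rfl⟩ := (symSecEquiv E hE U hU).symm.surjective x
  rw [show (symSec E hE U hU).hom.hom ((symSecEquiv E hE U hU).symm a) = a from
    (symSecEquiv E hE U hU).apply_symm_apply a]
  refine RingHom.congr_fun (?_ : ((symSec E hE V hV).hom.hom.comp
    ((symAlg E hE).presheaf.map (homOfLE h).op).hom).comp
      (symSecEquiv E hE U hU).symm.toRingHom = symRes E h) a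
  refine sym_ringHom_ext (fun r => ?_) fun y => ?_
  · rw [symRes_algebraMap]
    show (symSec E hE V hV).hom.hom (((symAlg E hE).presheaf.map _).hom
      ((symSec E hE U hU).inv.hom _)) = _
    rw [symSec_inv_algebraMap,
      show ((symAlg E hE).presheaf.map (homOfLE h).op).hom (((symAlg E hE).str.app (op U)).hom r) =
        ((symAlg E hE).str.app (op V)).hom (S.presheaf.map (homOfLE h).op r) from
        (CategoryTheory.congr_fun ((symAlg E hE).str.naturality (homOfLE h).op) r).symm,
      symSec_str]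
  · rw [symRes_ι]
    show (symSec E hE V hV).hom.hom (((symAlg E hE).presheaf.map _).hom
      ((symSec E hE U hU).inv.hom _)) = _
    rw [← symι_app E hE U hU,
      show ((symAlg E hE).presheaf.map (homOfLE h).op).hom ((symι E hE).app U y) =
        (symι E hE).app V (E.presheaf.map (homOfLE h).op y) from
        (CategoryTheory.congr_fun ((symι E hE).mapPresheaf.naturality (homOfLE h).op) y).symm,
      symι_app E hE V hV]
    exact CategoryTheory.congr_fun (symSec E hE V hV).inv_hom_id _

/-- The graded symmetric algebra of a quasi-coherent module. -/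
def symGrAlg (E : S.Modules) (hE : Coh.IsQCoh E) : RelProj.QCGrAlg S where
  toQCAlg := symAlg E hE
  deg U hU := degComap (symSecEquiv E hE U hU) (symDegAdd Γ(S, U) Γ(E, U))
  graded U hU := gradedRingDegComap _ _
  map_mem {U V} hU hV i {d x} hx := by
    show (symSec E hE V hV).hom.hom _ ∈ symDegAdd Γ(S, V) Γ(E, V) d
    rw [symSec_res E hE hU hV i]
    exact mem_of_mem_symDeg (symDegAdd Γ(S, V) Γ(E, V)) (symRes E i)
      (fun r => by rw [symRes_algebraMap]; exact algebraMap_mem_symDeg _ _ _)
      (fun y => by rw [symRes_ι]; exact ι_mem_symDeg _ _ _) hx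
  str_mem U hU r := by
    show (symSec E hE U hU).hom.hom _ ∈ symDegAdd Γ(S, U) Γ(E, U) 0
    rw [symSec_str]
    exact algebraMap_mem_symDeg _ _ _

theorem isGrSymAlg_symGrAlg (E : S.Modules) (hE : Coh.IsQCoh E) :
    RelProj.IsGrSymAlg E (symGrAlg E hE) (symι E hE) := by
  refine ⟨isSymAlg_symAlg E hE, fun U hU x => ?_⟩
  show (symSec E hE U hU).hom.hom ((symι E hE).app U x) ∈ symDegAdd Γ(S, U) Γ(E, U) 1
  rw [symι_app E hE U hU,
    show (symSec E hE U hU).hom.hom ((symSec E hE U hU).inv.hom _) = _ from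
      CategoryTheory.congr_fun (symSec E hE U hU).inv_hom_id _]
  exact ι_mem_symDeg _ _ x

theorem exists_isGrSymAlg (E : S.Modules) (hE : Coh.IsQCoh E) :
    ∃ (𝒮 : RelProj.QCGrAlg S) (j : E ⟶ 𝒮.toModule), RelProj.IsGrSymAlg E 𝒮 j :=
  ⟨_, _, isGrSymAlg_symGrAlg E hE⟩

section structureThm

variable {E : S.Modules} {𝒮 : RelProj.QCGrAlg S} {j : E ⟶ 𝒮.toModule}

variable (j) in
/-- The canonical map from the symmetric algebra of the sections. -/
def secMap (U : S.Opens) : SymmetricAlgebra Γ(S, U) Γ(E, U) →+* 𝒮.presheaf.obj (op U) :=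
  symLift (A := 𝒮.presheaf.obj (op U)) (𝒮.str.app (op U)).hom
    (j.app U).hom (fun r x => Scheme.Modules.Hom.app_smul j r x)

@[simp] theorem secMap_algebraMap (U : S.Opens) (r : Γ(S, U)) :
    secMap j U (algebraMap _ _ r) = (𝒮.str.app (op U)).hom r :=
  symLift_algebraMap _ _ _ r

@[simp] theorem secMap_ι (U : S.Opens) (x : Γ(E, U)) :
    secMap j U (SymmetricAlgebra.ι _ _ x) = (j.app U) x :=
  symLift_ι (A := 𝒮.presheaf.obj (op U)) _ _ _ x

theorem secMap_res {U V : S.Opens} (h : V ≤ U) (a : SymmetricAlgebra Γ(S, U) Γ(E, U)) :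
    secMap j V (symRes E h a) = (𝒮.presheaf.map (homOfLE h).op).hom (secMap j U a) := by
  refine RingHom.congr_fun (?_ : (secMap j V).comp (symRes E h) =
    (𝒮.presheaf.map (homOfLE h).op).hom.comp (secMap j U)) a
  refine sym_ringHom_ext (fun r => ?_) fun y => ?_
  · rw [RingHom.comp_apply, RingHom.comp_apply, symRes_algebraMap, secMap_algebraMap,
      secMap_algebraMap]
    exact CategoryTheory.congr_fun (𝒮.str.naturality (homOfLE h).op) r
  · rw [RingHom.comp_apply, RingHom.comp_apply, symRes_ι, secMap_ι, secMap_ι]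
    exact CategoryTheory.congr_fun (j.mapPresheaf.naturality (homOfLE h).op) y

variable (hE : Coh.IsQCoh E) (hj : RelProj.IsGrSymAlg E 𝒮 j)
include hE hj

theorem secMap_bijective (U : S.Opens) (hU : IsAffineOpen U) :
    Function.Bijective (secMap j U) :=
  bijective_symLift_app hE hj.1 U hU

theorem secMap_mem_iff (U : S.Opens) (hU : IsAffineOpen U) (n : ℕ)
    (a : SymmetricAlgebra Γ(S, U) Γ(E, U)) :
    secMap j U a ∈ 𝒮.deg U hU n ↔ a ∈ symDeg Γ(S, U) Γ(E, U) n :=
  mem_deg_iff (𝒮.deg U hU) (secMap j U) (secMap_bijective hE hj U hU)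
    (fun r => by rw [secMap_algebraMap]; exact 𝒮.str_mem U hU r)
    (fun x => by rw [secMap_ι]; exact hj.2 U hU x) n a

/-- The degree zero part is the structure sheaf. -/
theorem exists_of_mem_deg_zero (U : S.Opens) (hU : IsAffineOpen U) {a : 𝒮.presheaf.obj (op U)}
    (ha : a ∈ 𝒮.deg U hU 0) : ∃ r, (𝒮.str.app (op U)).hom r = a := by
  obtain ⟨b, rfl⟩ := (secMap_bijective hE hj U hU).2 a
  rw [secMap_mem_iff hE hj U hU, symDeg, pow_zero, Submodule.mem_one] at ha
  obtain ⟨r, rfl⟩ := ha
  exact ⟨r, (secMap_algebraMap U r).symm⟩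

theorem str_injective (U : S.Opens) (hU : IsAffineOpen U) :
    Function.Injective (𝒮.str.app (op U)).hom := by
  intro a b h
  rw [← secMap_algebraMap (j := j), ← secMap_algebraMap (j := j)] at h
  exact (SymmetricAlgebra.algebraMap_inj _ a b).mp ((secMap_bijective hE hj U hU).1 h)

/-- The degree one part is the module. -/
theorem exists_of_mem_deg_one (U : S.Opens) (hU : IsAffineOpen U) {a : 𝒮.presheaf.obj (op U)}
    (ha : a ∈ 𝒮.deg U hU 1) : ∃ x, (j.app U) x = a := by
  obtain ⟨b, rfl⟩ := (secMap_bijective hE hj U hU).2 a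
  rw [secMap_mem_iff hE hj U hU, symDeg, pow_one] at ha
  obtain ⟨x, rfl⟩ := ha
  exact ⟨x, (secMap_ι U x).symm⟩

theorem isGenDegOne : 𝒮.IsGenDegOne := by
  intro U hU
  rw [eq_top_iff]
  intro a _
  obtain ⟨b, rfl⟩ := (secMap_bijective hE hj U hU).2 a
  induction b using SymmetricAlgebra.induction with
  | algebraMap r =>
    exact Subring.subset_closure (Or.inl (by rw [secMap_algebraMap]; exact 𝒮.str_mem U hU r))
  | ι x => exact Subring.subset_closure (Or.inr (by rw [secMap_ι]; exact hj.2 U hU x))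
  | mul a b ha hb => rw [map_mul]; exact mul_mem (ha trivial) (hb trivial)
  | add a b ha hb => rw [map_add]; exact add_mem (ha trivial) (hb trivial)

end structureThm

end Groth.Agent.SymAlgX
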