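import Groth.Agent.SymAlgX.Ring
import Mathlib.RingTheory.IsTensorProduct
import Mathlib.Algebra.Category.Ring.Basic
import Mathlib.CategoryTheory.Limits.Shapes.Pullback.IsPullback.Defs

/-!
Base change of symmetric algebras is a pushout of rings.
-/

universe u

open CategoryTheory CategoryTheory.Limits

noncomputable section

namespace Groth.Agent.SymAlgX

variable {R R' : CommRingCat.{u}} (φ : R ⟶ R') {M : Type u} [AddCommGroup M] [Module R M]
  {M' : Type u} [AddCommGroup M'] [Module R' M'] (m : M →ₛₗ[φ.hom] M')

/-- If `M → M'` is a base change along `φ`, then `Sym M → Sym M'` is the base change along `φ`. -/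
theorem isPushout_symMap
    (hm : letI := φ.hom.toAlgebra; letI := Module.compHom M' φ.hom
      haveI : IsScalarTower R R' M' := IsScalarTower.of_algebraMap_smul fun r y => rfl
      IsBaseChange R' ({ toFun := m, map_add' := m.map_add,
                         map_smul' := fun r x => m.map_smulₛₗ r x } : M →ₗ[R] M')) :
    IsPushout φ (CommRingCat.ofHom (algebraMap R (SymmetricAlgebra R M)))
      (CommRingCat.ofHom (algebraMap R' (SymmetricAlgebra R' M')))
      (CommRingCat.ofHom (symMap φ.hom m)) := by
  let := φ.hom.toAlgebra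
  let := Module.compHom M' φ.hom
  have : IsScalarTower R R' M' := IsScalarTower.of_algebraMap_smul fun r y => rfl
  set mR : M →ₗ[R] M' := { toFun := m, map_add' := m.map_add, map_smul' := fun r x => m.map_smulₛₗ r x }
  have hext : ∀ (A : Type u) [CommRing A] (F G : SymmetricAlgebra R' M' →+* A),
      (∀ r, F (algebraMap R' _ r) = G (algebraMap R' _ r)) →
      (∀ x, F (SymmetricAlgebra.ι R' M' (m x)) = G (SymmetricAlgebra.ι R' M' (m x))) → F = G := by
    intro A _ F G h₀ h₁
    refine sym_ringHom_ext h₀ fun y => ?_
    induction y using hm.inductionOn with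
    | zero => simp
    | tmul x => exact h₁ x
    | smul r y hy => rw [map_smul, Algebra.smul_def, map_mul, map_mul, h₀, hy]
    | add a b ha hb => simp [ha, hb]
  have key : ∀ (c : PushoutCocone φ (CommRingCat.ofHom (algebraMap R (SymmetricAlgebra R M)))),
      ∃ G : SymmetricAlgebra R' M' →+* c.pt,
        (∀ r, G (algebraMap R' _ r) = c.inl.hom r) ∧ ∀ a, G (symMap φ.hom m a) = c.inr.hom a := by
    intro c
    have hc : ∀ r, c.inl.hom (φ.hom r) = c.inr.hom (algebraMap R _ r) :=
      fun r => CategoryTheory.congr_fun c.condition r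
    let : Algebra R' c.pt := c.inl.hom.toAlgebra
    let : Algebra R c.pt := (c.inl.hom.comp φ.hom).toAlgebra
    have : IsScalarTower R R' c.pt := IsScalarTower.of_algebraMap_eq fun r => rfl
    let g : M →ₗ[R] c.pt :=
      { toFun := fun x => c.inr.hom (SymmetricAlgebra.ι R M x)
        map_add' := fun a b => by simp
        map_smul' := fun r x => by
          simp only [map_smul, Algebra.smul_def, map_mul, RingHom.id_apply]
          rw [← hc]; rfl }
    let G := (SymmetricAlgebra.lift (hm.lift g)).toRingHom
    refine ⟨G, fun r => AlgHom.commutes _ r, RingHom.congr_fun (?_ : G.comp (symMap φ.hom m) = c.inr.hom)⟩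
    refine sym_ringHom_ext (fun r => ?_) fun x => ?_
    · rw [RingHom.comp_apply, symMap_algebraMap]
      exact (AlgHom.commutes _ _).trans (hc r)
    · rw [RingHom.comp_apply, symMap_ι]
      exact (SymmetricAlgebra.lift_ι_apply _ _).trans (hm.lift_eq g x)
  choose G hG₀ hG₁ using key
  refine IsPushout.of_isColimit (PushoutCocone.IsColimit.mk ?_ (fun c => CommRingCat.ofHom (G c))
    (fun c => CommRingCat.hom_ext (RingHom.ext (hG₀ c)))
    (fun c => CommRingCat.hom_ext (RingHom.ext (hG₁ c))) (fun c F h₀ h₁ => ?_))
  · exact CommRingCat.hom_ext (RingHom.ext fun r => (symMap_algebraMap φ.hom m r).symm)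
  · refine CommRingCat.hom_ext (hext _ _ _ (fun r => ?_) fun x => ?_)
    · exact (CategoryTheory.congr_fun h₀ r).trans (hG₀ c r).symm
    · rw [← symMap_ι φ.hom m]
      exact (CategoryTheory.congr_fun h₁ (SymmetricAlgebra.ι R M x)).trans (hG₁ c _).symm

end Groth.Agent.SymAlgX
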