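import Groth.Prelude.Def_RelProj4
import Groth.Agent.SymAlgX.Universal
import Groth.Agent.SymAlgX.PushoutRing
import Groth.Agent.QCoh.PullbackBC

/-!
Base change of symmetric algebras of quasi-coherent modules.
-/

universe u

open CategoryTheory CategoryTheory.Limits AlgebraicGeometry TopologicalSpace Opposite

noncomputable section

namespace Groth.Agent.SymAlgX

variable {S S' : Scheme.{u}} (g : S' ⟶ S) (E : S.Modules)

/-- Pullback of sections, as a semilinear map. -/
def pullSecₛₗ {U : S.Opens} {U' : S'.Opens} (hle : U' ≤ g ⁻¹ᵁ U) :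
    Γ(E, U) →ₛₗ[(g.appLE U U' hle).hom] Γ((Scheme.Modules.pullback g).obj E, U') where
  toFun := QCoh.pullSec g E hle
  map_add' := QCoh.pullSec_add g E hle
  map_smul' := QCoh.pullSec_smul g E hle

variable {g E} {A : RelSpec.QCAlg S} {j : E ⟶ A.toModule} {B : RelSpec.QCAlg S'}
  {j' : (Scheme.Modules.pullback g).obj E ⟶ B.toModule}

/-- The symmetric algebra of an inverse image is the inverse-image algebra. -/
theorem isQBaseChange (hE : Coh.IsQCoh E) (hA : RelSpec.IsSymAlg E A j)
    (hB : RelSpec.IsSymAlg ((Scheme.Modules.pullback g).obj E) B j') (u : RelSpec.QHom g A B)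
    (hu : ∀ (U : S.Opens) (x : Γ(E, U)),
      (u.app U).hom ((j.app U) x) =
        (j'.app (g ⁻¹ᵁ U)) (((Scheme.Modules.pullbackPushforwardAdjunction g).unit.app E).app U x)) :
    RelSpec.IsQBaseChange u := by
  intro U hU U' hU' hle
  have hE' : Coh.IsQCoh ((Scheme.Modules.pullback g).obj E) := QCoh.isQCoh_pullback g hE
  have hpo := isPushout_symMap (g.appLE U U' hle) (pullSecₛₗ g E hle) (by
    let := (g.appLE U U' hle).hom.toAlgebra
    let := Module.compHom Γ((Scheme.Modules.pullback g).obj E, U') (g.appLE U U' hle).hom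
    have : IsScalarTower Γ(S, U) Γ(S', U') Γ((Scheme.Modules.pullback g).obj E, U') :=
      IsScalarTower.of_algebraMap_smul fun r y => rfl
    exact QCoh.isBaseChange_pullback hU g hU' hE hle (fun r => rfl) _ (fun x => rfl))
  let FA := symLift (A := A.presheaf.obj (op U)) (A.str.app (op U)).hom
    (j.app U).hom (fun r x => Scheme.Modules.Hom.app_smul j r x)
  let FB := symLift (A := B.presheaf.obj (op U')) (B.str.app (op U')).hom
    (j'.app U').hom (fun r x => Scheme.Modules.Hom.app_smul j' r x)
  let eA : CommRingCat.of (SymmetricAlgebra Γ(S, U) Γ(E, U)) ≅ A.presheaf.obj (op U) :=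
    (RingEquiv.ofBijective FA (bijective_symLift_app hE hA U hU)).toCommRingCatIso
  let eB : CommRingCat.of (SymmetricAlgebra Γ(S', U') Γ((Scheme.Modules.pullback g).obj E, U')) ≅
      B.presheaf.obj (op U') :=
    (RingEquiv.ofBijective FB (bijective_symLift_app hE' hB U' hU')).toCommRingCatIso
  refine hpo.of_iso (Iso.refl _) (Iso.refl _) eA eB ?_ ?_ ?_ ?_
  · rw [Iso.refl_hom, Iso.refl_hom, Category.comp_id, Category.id_comp]
  · rw [Iso.refl_hom, Category.id_comp]
    exact CommRingCat.hom_ext (RingHom.ext fun r => symLift_algebraMap _ _ _ r)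
  · rw [Iso.refl_hom, Category.id_comp]
    exact CommRingCat.hom_ext (RingHom.ext fun r => symLift_algebraMap _ _ _ r)
  · refine CommRingCat.hom_ext (sym_ringHom_ext (fun r => ?_) fun x => ?_)
    · show FB (symMap _ _ (algebraMap _ _ r)) = (u.appLE U U' hle).hom (FA (algebraMap _ _ r))
      simp only [FA, FB, symMap_algebraMap, symLift_algebraMap]
      have h0 : (u.app U).hom ((A.str.app (op U)).hom r) =
          (B.str.app (op (g ⁻¹ᵁ U))).hom ((g.app U).hom r) :=
        CategoryTheory.congr_fun (u.str_app U) r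
      show _ = (B.presheaf.map (homOfLE hle).op).hom ((u.app U).hom _)
      rw [h0]
      exact CategoryTheory.congr_fun (B.str.naturality (homOfLE hle).op) ((g.app U).hom r)
    · show FB (symMap _ _ (SymmetricAlgebra.ι _ _ x)) = (u.appLE U U' hle).hom (FA (SymmetricAlgebra.ι _ _ x))
      simp only [FA, FB, symMap_ι]
      rw [symLift_ι (A := B.presheaf.obj (op U')), symLift_ι (A := A.presheaf.obj (op U))]
      show _ = (B.presheaf.map (homOfLE hle).op).hom ((u.app U).hom (j.app U x))
      rw [hu]
      exact CategoryTheory.congr_fun (j'.mapPresheaf.naturality (homOfLE hle).op)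
        (((Scheme.Modules.pullbackPushforwardAdjunction g).unit.app E).app U x)

end Groth.Agent.SymAlgX
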