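import Groth.Prelude.Def_RelSpec
import Groth.Agent.RelSpecX.Gamma
import Mathlib.CategoryTheory.Sites.DenseSubsite.Basic

/-!
A quasi-coherent algebra from a localizing functor of rings on the affine opens of a scheme.
-/

universe u

open CategoryTheory CategoryTheory.Limits AlgebraicGeometry TopologicalSpace Opposite

noncomputable section

namespace Groth.Agent.SymAlgX

variable (S : Scheme.{u})

/-- A functor of rings on the affine opens with a localizing structure map. -/
structure AffFun where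
  /-- the functor -/
  F : S.AffineZariskiSiteᵒᵖ ⥤ CommRingCat.{u}
  /-- the structure map -/
  α : (Scheme.AffineZariskiSite.toOpensFunctor S).op ⋙ S.presheaf ⟶ F
  coequifibered : α.Coequifibered

/-- An affine open as an object of the affine site. -/
abbrev asite {S : Scheme.{u}} (U : S.Opens) (hU : IsAffineOpen U) : S.AffineZariskiSite := ⟨U, hU⟩

namespace AffFun

variable {S} (D : AffFun S)

/-- The relative gluing datum. -/
def glueData : (Scheme.AffineZariskiSite.directedCover S).RelativeGluingData :=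
  Scheme.AffineZariskiSite.relativeGluingData D.coequifibered

instance : (D.glueData.functor ⋙ Scheme.forget).IsLocallyDirected :=
  Scheme.Cover.RelativeGluingData.instIsLocallyDirectedI₀CompFunctorForgetOfIsThin ..

/-- The glued scheme. -/
def V : Scheme.{u} := D.glueData.glued

/-- The structure map. -/
def π : D.V ⟶ S := D.glueData.toBase

variable (U : S.Opens) (hU : IsAffineOpen U)

/-- The structure map over an affine open, at its expected type. -/
def strU : Γ(S, U) ⟶ D.F.obj (op (asite U hU)) := D.α.app (op (asite U hU))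

/-- The chart over an affine open. -/
def ι : Spec (D.F.obj (op (asite U hU))) ⟶ D.V :=
  D.glueData.cover.f ⟨U, hU⟩

instance : IsOpenImmersion (D.ι U hU) := D.glueData.cover.map_prop _

theorem ι_π : D.ι U hU ≫ D.π = Spec.map (D.strU U hU) ≫ hU.fromSpec :=
  colimit.ι_desc _ _

theorem π_preimage : D.π ⁻¹ᵁ U = (D.ι U hU).opensRange := by
  simpa using! D.glueData.toBase_preimage_eq_opensRange_ι ⟨U, hU⟩

instance isAffineHom_π : IsAffineHom D.π where
  isAffine_preimage U hU := by
    rw [D.π_preimage U hU]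
    exact isAffineOpen_opensRange (D.ι U hU)

theorem top_le_preimage :
    (⊤ : (Spec (D.F.obj (op (asite U hU)))).Opens) ≤ D.ι U hU ⁻¹ᵁ (D.π ⁻¹ᵁ U) := by
  rw [← Scheme.Hom.comp_preimage, D.ι_π, Scheme.Hom.comp_preimage, hU.fromSpec_preimage_self]
  exact le_top

/-- Functions on the preimage of an affine open. -/
def gammaAff : Γ(D.V, D.π ⁻¹ᵁ U) ⟶ D.F.obj (op (asite U hU)) :=
  (D.ι U hU).appLE (D.π ⁻¹ᵁ U) ⊤ (D.top_le_preimage U hU) ≫
    (Scheme.ΓSpecIso (D.F.obj (op (asite U hU)))).hom

instance isIso_gammaAff : IsIso (D.gammaAff U hU) := by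
  have h1 : IsIso ((D.ι U hU).appLE (D.π ⁻¹ᵁ U) ⊤ (D.top_le_preimage U hU)) :=
    RelSpecX.isIso_appLE_of_le_range _ _ _ (D.π_preimage U hU).le
      (le_antisymm (D.top_le_preimage U hU) le_top)
  exact inferInstanceAs (IsIso (_ ≫ _))

omit U hU in
theorem ι_res {U V : S.AffineZariskiSite} (i : V ⟶ U) :
    Spec.map (D.F.map i.op) ≫ D.ι U.1 U.2 = D.ι V.1 V.2 :=
  colimit.w D.glueData.functor i

omit U hU in
set_option backward.isDefEq.respectTransparency false in
theorem gammaAff_naturality {U V : S.AffineZariskiSite} (i : V ⟶ U) :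
    D.V.presheaf.map (homOfLE (D.π.preimage_mono (Scheme.AffineZariskiSite.toOpens_mono i.le))).op ≫
        D.gammaAff V.1 V.2 =
      D.gammaAff U.1 U.2 ≫ D.F.map i.op := by
  simp only [gammaAff, Category.assoc, ← Scheme.ΓSpecIso_naturality]
  simp only [← Category.assoc]
  congr 1
  simp only [Scheme.Hom.appTop, Scheme.Hom.appLE, Category.assoc]
  have h1 := (Scheme.Hom.comp_app (Spec.map (D.F.map i.op)) (D.ι U.1 U.2) (D.π ⁻¹ᵁ U.1)).symm
  rw [Scheme.Hom.naturality_assoc, Scheme.Hom.naturality, reassoc_of% h1,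
    Scheme.Hom.congr_app (D.ι_res i), Category.assoc, ← Functor.map_comp, ← Functor.map_comp]
  rfl

set_option backward.isDefEq.respectTransparency false in
theorem π_app_gammaAff : D.π.app U ≫ D.gammaAff U hU = D.strU U hU := by
  have h1 := Scheme.Hom.congr_app (D.ι_π U hU) U
  have h2 := (Scheme.Hom.comp_app (D.ι U hU) D.π U).symm
  have hk : ∀ k : (op ⊤ : (Spec (D.F.obj (op (asite U hU)))).Opensᵒᵖ) ⟶ op ⊤,
      (Spec (D.F.obj (op (asite U hU)))).presheaf.map k = 𝟙 _ := fun k => by
    rw [Subsingleton.elim k (𝟙 _)]; exact CategoryTheory.Functor.map_id _ _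
  simp only [gammaAff, Scheme.Hom.appLE, Category.assoc]
  rw [reassoc_of% h2, h1, Scheme.Hom.comp_app, hU.fromSpec_app_self]
  simp only [Category.assoc, Scheme.Hom.naturality_assoc]
  simp only [← Functor.map_comp_assoc]
  rw [hk]
  refine Eq.trans (congrArg (fun e => (Scheme.ΓSpecIso Γ(S, U)).inv ≫ (Spec.map (D.strU U hU)).app ⊤ ≫ e)
    (Category.id_comp _)) ?_
  exact (congrArg (fun e => (Scheme.ΓSpecIso Γ(S, U)).inv ≫ e)
    (Scheme.ΓSpecIso_naturality (D.strU U hU))).trans (Iso.inv_hom_id_assoc _ _)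

/-- The quasi-coherent algebra. -/
def alg : RelSpec.QCAlg S := RelSpec.QCAlg.directImage D.π

/-- Its sections over affine opens are the given functor. -/
def affIso : (Scheme.AffineZariskiSite.toOpensFunctor S).op ⋙ D.alg.presheaf ≅ D.F :=
  NatIso.ofComponents (fun U => @asIso _ _ _ _ (D.gammaAff U.unop.1 U.unop.2) (D.isIso_gammaAff U.unop.1 U.unop.2))
    (fun i => D.gammaAff_naturality i.unop)

theorem str_affIso :
    (Scheme.AffineZariskiSite.toOpensFunctor S).op.whiskerLeft D.alg.str ≫ D.affIso.hom = D.α := by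
  ext U : 2
  exact D.π_app_gammaAff U.unop.1 U.unop.2

/-- Homomorphisms out of the algebra are given on the affine opens. -/
theorem existsUnique_hom (B : RelSpec.QCAlg S)
    (β : D.F ⟶ (Scheme.AffineZariskiSite.toOpensFunctor S).op ⋙ B.presheaf)
    (hβ : D.α ≫ β = (Scheme.AffineZariskiSite.toOpensFunctor S).op.whiskerLeft B.str) :
    ∃! ψ : D.alg ⟶ B,
      (Scheme.AffineZariskiSite.toOpensFunctor S).op.whiskerLeft ψ.hom = D.affIso.hom ≫ β := by
  let e := fun ℱ : TopCat.Presheaf CommRingCat.{u} S.carrier =>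
    Functor.IsCoverDense.restrictHomEquivHom (G := Scheme.AffineZariskiSite.toOpensFunctor S)
      (K := Opens.grothendieckTopology S) (ℱ := ℱ)
      (ℱ' := (⟨B.presheaf, B.isSheaf⟩ : TopCat.Sheaf CommRingCat.{u} S.carrier))
  refine ⟨⟨(e _) (D.affIso.hom ≫ β), ?_⟩, (e _).symm_apply_apply _, ?_⟩
  · apply (e S.presheaf).symm.injective
    show (Scheme.AffineZariskiSite.toOpensFunctor S).op.whiskerLeft D.alg.str ≫
        (Scheme.AffineZariskiSite.toOpensFunctor S).op.whiskerLeft ((e _) (D.affIso.hom ≫ β)) =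
      (Scheme.AffineZariskiSite.toOpensFunctor S).op.whiskerLeft B.str
    rw [← hβ]
    refine Eq.trans (congrArg (_ ≫ ·) ((e _).symm_apply_apply _)) ?_
    rw [← Category.assoc, D.str_affIso]
  · intro ψ hψ
    apply RelSpec.QCAlg.hom_ext
    apply (e _).symm.injective
    exact hψ.trans ((e _).symm_apply_apply _).symm

end AffFun

/-- Homomorphisms of quasi-coherent algebras agree if they agree on the affine opens. -/
theorem qcAlg_hom_ext {A B : RelSpec.QCAlg S} {φ ψ : A ⟶ B}
    (h : ∀ (U : S.Opens) (_ : IsAffineOpen U), φ.hom.app (op U) = ψ.hom.app (op U)) : φ = ψ := by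
  apply RelSpec.QCAlg.hom_ext
  apply (Functor.IsCoverDense.restrictHomEquivHom (G := Scheme.AffineZariskiSite.toOpensFunctor S)
    (K := Opens.grothendieckTopology S) (ℱ := A.presheaf)
    (ℱ' := (⟨B.presheaf, B.isSheaf⟩ : TopCat.Sheaf CommRingCat.{u} S.carrier))).symm.injective
  ext U : 2
  exact h U.unop.1 U.unop.2

end Groth.Agent.SymAlgX
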