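import Mathlib.LinearAlgebra.SymmetricAlgebra.Basic
import Mathlib.RingTheory.Localization.Away.Basic
import Mathlib.Algebra.Module.LocalizedModule.Basic
import Mathlib.RingTheory.Localization.Module

/-!
Functoriality of symmetric algebras along semilinear maps, and their compatibility with localization.
-/

universe u

namespace Groth.Agent.SymAlgX

variable {R R' R'' : Type*} [CommRing R] [CommRing R'] [CommRing R'']
  {M M' M'' : Type*} [AddCommGroup M] [Module R M] [AddCommGroup M'] [Module R' M']
  [AddCommGroup M''] [Module R'' M'']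

/-- Two ring homomorphisms out of a symmetric algebra agree if they agree on scalars and generators. -/
theorem sym_ringHom_ext {A : Type*} [CommRing A] {F G : SymmetricAlgebra R M →+* A}
    (h₁ : ∀ r, F (algebraMap R _ r) = G (algebraMap R _ r))
    (h₂ : ∀ x, F (SymmetricAlgebra.ι R M x) = G (SymmetricAlgebra.ι R M x)) : F = G := by
  refine RingHom.ext fun a => ?_
  induction a using SymmetricAlgebra.induction with
  | algebraMap r => exact h₁ r
  | ι x => exact h₂ x
  | mul a b ha hb => rw [map_mul, map_mul, ha, hb]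
  | add a b ha hb => rw [map_add, map_add, ha, hb]

/-- The ring homomorphism out of a symmetric algebra given on scalars and on generators. -/
noncomputable def symLift {A : Type*} [CommRing A] (φ : R →+* A) (m : M →+ A)
    (hm : ∀ r x, m (r • x) = φ r * m x) : SymmetricAlgebra R M →+* A :=
  letI := φ.toAlgebra
  (SymmetricAlgebra.lift
    ({ toFun := m, map_add' := m.map_add, map_smul' := hm } : M →ₗ[R] A)).toRingHom

theorem symLift_algebraMap {A : Type*} [CommRing A] (φ : R →+* A) (m : M →+ A)
    (hm : ∀ r x, m (r • x) = φ r * m x) (r : R) :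
    symLift φ m hm (algebraMap R _ r) = φ r := by
  letI := φ.toAlgebra
  exact AlgHom.commutes _ r

theorem symLift_ι {A : Type*} [CommRing A] (φ : R →+* A) (m : M →+ A)
    (hm : ∀ r x, m (r • x) = φ r * m x) (x : M) :
    symLift φ m hm (SymmetricAlgebra.ι R M x) = m x := by
  letI := φ.toAlgebra
  exact SymmetricAlgebra.lift_ι_apply _ x

variable (φ : R →+* R') (m : M →ₛₗ[φ] M')

/-- The map of symmetric algebras induced by a semilinear map. -/
noncomputable def symMap : SymmetricAlgebra R M →+* SymmetricAlgebra R' M' :=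
  symLift ((algebraMap R' _).comp φ)
    ((SymmetricAlgebra.ι R' M').toAddMonoidHom.comp m.toAddMonoidHom)
    (fun r x => by
      show SymmetricAlgebra.ι R' M' (m (r • x)) = _
      rw [m.map_smulₛₗ, map_smul, Algebra.smul_def]
      rfl)

@[simp] theorem symMap_algebraMap (r : R) :
    symMap φ m (algebraMap R _ r) = algebraMap R' _ (φ r) :=
  symLift_algebraMap _ _ _ r

@[simp] theorem symMap_ι (x : M) :
    symMap φ m (SymmetricAlgebra.ι R M x) = SymmetricAlgebra.ι R' M' (m x) :=
  symLift_ι _ _ _ x

theorem symMap_id (m₀ : M →ₛₗ[RingHom.id R] M) (h : ∀ x, m₀ x = x) :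
    symMap (RingHom.id R) m₀ = RingHom.id _ :=
  sym_ringHom_ext (fun r => by simp) (fun x => by simp [h])

theorem symMap_comp {ψ : R' →+* R''} {χ : R →+* R''} (n : M' →ₛₗ[ψ] M'') (k : M →ₛₗ[χ] M'')
    (hχ : ∀ r, ψ (φ r) = χ r) (hk : ∀ x, n (m x) = k x) :
    (symMap ψ n).comp (symMap φ m) = symMap χ k :=
  sym_ringHom_ext (fun r => by simp [hχ]) (fun x => by simp [hk])

variable {A : Type*} [CommRing A]

/-- Homomorphisms out of `Sym M'` are determined by their restriction to `Sym M`. -/
theorem hom_ext_of_localization (f : R)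
    (hR : @IsLocalization.Away R _ f R' _ φ.toAlgebra)
    (h₁ : ∀ y : M', ∃ (n : ℕ) (x : M), m x = φ f ^ n • y)
    {G G' : SymmetricAlgebra R' M' →+* A}
    (h : G.comp (symMap φ m) = G'.comp (symMap φ m)) : G = G' := by
  let : Algebra R R' := φ.toAlgebra
  have : IsLocalization.Away f R' := hR
  have hs : G.comp (algebraMap R' _) = G'.comp (algebraMap R' _) := by
    refine IsLocalization.ringHom_ext (Submonoid.powers f) (RingHom.ext fun r => ?_)
    have h0 := RingHom.congr_fun h (algebraMap R _ r)
    rwa [RingHom.comp_apply, RingHom.comp_apply, symMap_algebraMap] at h0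
  refine sym_ringHom_ext (RingHom.congr_fun hs) fun y => ?_
  obtain ⟨n, x, hx⟩ := h₁ y
  have h0 := RingHom.congr_fun h (SymmetricAlgebra.ι R M x)
  rw [RingHom.comp_apply, RingHom.comp_apply, symMap_ι, hx, LinearMap.map_smul, Algebra.smul_def,
    map_mul, map_mul, show G (algebraMap R' _ (φ f ^ n)) = G' (algebraMap R' _ (φ f ^ n)) from
      RingHom.congr_fun hs _] at h0
  exact (((IsLocalization.Away.algebraMap_isUnit (S := R') f).pow n).map
    (G'.comp (algebraMap R' _))).mul_left_cancel h0

/-- A homomorphism out of `Sym M` inverting `f` extends to `Sym M'`. -/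
theorem exists_lift_of_localization (f : R)
    (hR : @IsLocalization.Away R _ f R' _ φ.toAlgebra)
    (h₁ : ∀ y : M', ∃ (n : ℕ) (x : M), m x = φ f ^ n • y)
    (h₂ : ∀ x : M, m x = 0 → ∃ n : ℕ, f ^ n • x = 0)
    (j : SymmetricAlgebra R M →+* A) (hj : IsUnit (j (algebraMap R _ f))) :
    ∃ G : SymmetricAlgebra R' M' →+* A, G.comp (symMap φ m) = j := by
  let : Algebra R R' := φ.toAlgebra
  have : IsLocalization.Away f R' := hR
  let : Module R M' := Module.compHom M' φ
  have : IsScalarTower R R' M' := IsScalarTower.of_algebraMap_smul fun r y => rfl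
  let mR : M →ₗ[R] M' :=
    { toFun := m, map_add' := m.map_add, map_smul' := fun r x => m.map_smulₛₗ r x }
  have hfu : IsUnit (φ f) := IsLocalization.Away.algebraMap_isUnit (S := R') f
  have hloc : IsLocalizedModule (Submonoid.powers f) mR := by
    refine ⟨?_, ?_, ?_⟩
    · rintro ⟨_, n, rfl⟩
      rw [Module.End.isUnit_iff]
      have : IsUnit (φ (f ^ n)) := by rw [map_pow]; exact hfu.pow n
      exact this.smul_bijective (β := M')
    · intro y
      obtain ⟨n, x, hx⟩ := h₁ y
      refine ⟨⟨x, ⟨f ^ n, n, rfl⟩⟩, ?_⟩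
      show φ (f ^ n) • y = m x
      rw [hx, map_pow]
    · intro x₁ x₂ hx
      obtain ⟨n, hn⟩ := h₂ (x₁ - x₂) (by rw [map_sub]; exact sub_eq_zero.mpr hx)
      refine ⟨⟨f ^ n, n, rfl⟩, ?_⟩
      show f ^ n • x₁ = f ^ n • x₂
      rwa [smul_sub, sub_eq_zero] at hn
  let ψ : R' →+* A := IsLocalization.Away.lift f (g := j.comp (algebraMap R _)) hj
  have hψ : ∀ r, ψ (φ r) = j (algebraMap R _ r) := fun r =>
    IsLocalization.Away.lift_eq (S := R') f _ r
  let : Algebra R' A := ψ.toAlgebra
  let : Algebra R A := (j.comp (algebraMap R _)).toAlgebra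
  have : IsScalarTower R R' A := IsScalarTower.of_algebraMap_eq fun r => (hψ r).symm
  let gA : M →ₗ[R] A :=
    { toFun := fun x => j (SymmetricAlgebra.ι R M x)
      map_add' := fun a b => by simp
      map_smul' := fun r x => by
        simp only [LinearMap.map_smul, Algebra.smul_def, map_mul, RingHom.id_apply]
        rfl }
  have hu : ∀ x : Submonoid.powers f, IsUnit ((algebraMap R (Module.End R A)) x) := by
    rintro ⟨_, n, rfl⟩
    rw [Module.End.isUnit_iff]
    have h0 : IsUnit (algebraMap R A (f ^ n)) := by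
      rw [map_pow]; exact hj.pow n
    show Function.Bijective fun a : A => (f ^ n) • a
    simp only [Algebra.smul_def]
    exact h0.unit.mulLeft_bijective
  let g' : M' →ₗ[R] A := IsLocalizedModule.lift (Submonoid.powers f) mR gA hu
  have hg' : ∀ x, g' (m x) = gA x := fun x => IsLocalizedModule.lift_apply _ mR gA hu x
  let g'' : M' →ₗ[R'] A := g'.extendScalarsOfIsLocalization (Submonoid.powers f) R'
  refine ⟨(SymmetricAlgebra.lift g'').toRingHom, sym_ringHom_ext (fun r => ?_) (fun x => ?_)⟩
  · rw [RingHom.comp_apply, symMap_algebraMap]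
    exact (AlgHom.commutes _ _).trans (hψ r)
  · rw [RingHom.comp_apply, symMap_ι]
    exact (SymmetricAlgebra.lift_ι_apply g'' (m x)).trans (hg' x)

/-- If `R → R'` inverts `f` and `M → M'` is the localization of modules at `f`, the induced map of
symmetric algebras is the localization at `f`. -/
theorem isLocalization_away_symMap (f : R)
    (hR : @IsLocalization.Away R _ f R' _ φ.toAlgebra)
    (h₁ : ∀ y : M', ∃ (n : ℕ) (x : M), m x = φ f ^ n • y)
    (h₂ : ∀ x : M, m x = 0 → ∃ n : ℕ, f ^ n • x = 0) :
    @IsLocalization.Away (SymmetricAlgebra R M) _ (algebraMap R (SymmetricAlgebra R M) f)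
      (SymmetricAlgebra R' M') _ (symMap φ m).toAlgebra := by
  let := (symMap φ m).toAlgebra
  set s : SymmetricAlgebra R M := algebraMap R _ f
  have hsu : IsUnit (symMap φ m s) := by
    rw [symMap_algebraMap]
    let : Algebra R R' := φ.toAlgebra
    have : IsLocalization.Away f R' := hR
    exact (IsLocalization.Away.algebraMap_isUnit (S := R') f).map _
  obtain ⟨G, hG⟩ := exists_lift_of_localization φ m f hR h₁ h₂
    (algebraMap (SymmetricAlgebra R M) (Localization.Away s))
    (IsLocalization.Away.algebraMap_isUnit (S := Localization.Away s) s)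
  let F : Localization.Away s →+* SymmetricAlgebra R' M' := IsLocalization.Away.lift s hsu
  have hF : ∀ a, F (algebraMap _ _ a) = symMap φ m a := fun a => IsLocalization.Away.lift_eq s hsu a
  have hGF : G.comp F = RingHom.id _ := by
    refine IsLocalization.ringHom_ext (Submonoid.powers s) (RingHom.ext fun a => ?_)
    show G (F (algebraMap _ _ a)) = algebraMap _ _ a
    rw [hF]
    exact RingHom.congr_fun hG a
  have hFG : F.comp G = RingHom.id _ := by
    refine hom_ext_of_localization φ m f hR h₁ (RingHom.ext fun a => ?_)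
    show F (G (symMap φ m a)) = symMap φ m a
    rw [← RingHom.comp_apply G, hG, hF]
  exact IsLocalization.isLocalization_of_algEquiv (Submonoid.powers s)
    (AlgEquiv.ofRingEquiv (f := RingEquiv.ofRingHom F G hFG hGF) hF)

end Groth.Agent.SymAlgX
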