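import Groth.Agent.SymAlgX.Ring
import Groth.Agent.SymAlgX.AffFun
import Groth.Agent.QCoh.Qcqs

/-!
The symmetric algebra of a quasi-coherent module, with its sections over affine opens.
-/

universe u

open CategoryTheory CategoryTheory.Limits AlgebraicGeometry TopologicalSpace Opposite

noncomputable section

namespace Groth.Agent.SymAlgX

variable {S : Scheme.{u}} (E : S.Modules)

/-- Restriction of sections of a module, as a semilinear map. -/
def resₛₗ {U V : S.Opens} (h : V ≤ U) : Γ(E, U) →ₛₗ[(S.presheaf.map (homOfLE h).op).hom] Γ(E, V) where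
  toFun x := E.presheaf.map (homOfLE h).op x
  map_add' a b := map_add _ a b
  map_smul' r x := E.map_smul (homOfLE h) r x

/-- The restriction map of symmetric algebras of sections. -/
def symRes {U V : S.Opens} (h : V ≤ U) :
    SymmetricAlgebra Γ(S, U) Γ(E, U) →+* SymmetricAlgebra Γ(S, V) Γ(E, V) :=
  symMap _ (resₛₗ E h)

theorem symRes_algebraMap {U V : S.Opens} (h : V ≤ U) (r : Γ(S, U)) :
    symRes E h (algebraMap _ _ r) = algebraMap _ _ (S.presheaf.map (homOfLE h).op r) :=
  symMap_algebraMap _ _ r

theorem symRes_ι {U V : S.Opens} (h : V ≤ U) (x : Γ(E, U)) :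
    symRes E h (SymmetricAlgebra.ι _ _ x) =
      SymmetricAlgebra.ι _ _ (E.presheaf.map (homOfLE h).op x) :=
  symMap_ι _ _ x

theorem symRes_self {U : S.Opens} (h : U ≤ U) : symRes E h = RingHom.id _ :=
  sym_ringHom_ext
    (fun r => by rw [symRes_algebraMap, QCoh.ringMap_id]; rfl)
    (fun x => by rw [symRes_ι, QCoh.map_id']; rfl)

theorem symRes_symRes {U V W : S.Opens} (h : V ≤ U) (h' : W ≤ V) :
    (symRes E h').comp (symRes E h) = symRes E (h'.trans h) :=
  sym_ringHom_ext
    (fun r => by
      rw [RingHom.comp_apply, symRes_algebraMap, symRes_algebraMap, symRes_algebraMap,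
        QCoh.ringMap_map]; rfl)
    (fun x => by
      rw [RingHom.comp_apply, symRes_ι, symRes_ι, symRes_ι, QCoh.map_map]; rfl)

/-- The functor `U ↦ Sym E(U)` on affine opens. -/
def symPre : S.AffineZariskiSiteᵒᵖ ⥤ CommRingCat.{u} where
  obj U := CommRingCat.of (SymmetricAlgebra Γ(S, U.unop.toOpens) Γ(E, U.unop.toOpens))
  map i := CommRingCat.ofHom (symRes E (Scheme.AffineZariskiSite.toOpens_mono i.unop.le))
  map_id U := CommRingCat.hom_ext (symRes_self E _)
  map_comp i j := CommRingCat.hom_ext (symRes_symRes E _ _).symm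

/-- Its structure map. -/
def symStr : (Scheme.AffineZariskiSite.toOpensFunctor S).op ⋙ S.presheaf ⟶ symPre E where
  app U := CommRingCat.ofHom (algebraMap Γ(S, U.unop.toOpens) _)
  naturality U V i := CommRingCat.hom_ext (RingHom.ext fun r =>
    (symRes_algebraMap E (Scheme.AffineZariskiSite.toOpens_mono i.unop.le) r).symm)

theorem symStr_coequifibered (hE : Coh.IsQCoh E) : (symStr E).Coequifibered := by
  rw [Scheme.AffineZariskiSite.coequifibered_iff_forall_isLocalizationAway]
  intro U r
  exact isLocalization_away_symMap (S.presheaf.map (homOfLE (S.basicOpen_le r)).op).hom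
    (resₛₗ E (S.basicOpen_le r)) r (U.2.isLocalization_basicOpen r)
    (fun y => by
      obtain ⟨n, x, hx⟩ := QCoh.exists_pow_smul_eq_map hE U.2 r y
      exact ⟨n, x, hx⟩)
    (fun x hx => QCoh.exists_pow_smul_eq_zero hE U.2 r x hx)

/-- The symmetric algebra as a functor on affine opens. -/
def symFun (hE : Coh.IsQCoh E) : AffFun S :=
  ⟨symPre E, symStr E, symStr_coequifibered E hE⟩

/-- The symmetric algebra of a quasi-coherent module. -/
def symAlg (hE : Coh.IsQCoh E) : RelSpec.QCAlg S := (symFun E hE).alg

variable {E}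

/-- The functor homomorphism induced by a module map into an algebra. -/
def liftAff {B : RelSpec.QCAlg S} (φ : E ⟶ B.toModule) :
    symPre E ⟶ (Scheme.AffineZariskiSite.toOpensFunctor S).op ⋙ B.presheaf where
  app U := CommRingCat.ofHom (symLift (A := B.presheaf.obj (op U.unop.toOpens))
    (B.str.app (op U.unop.toOpens)).hom
    (φ.app U.unop.toOpens).hom (fun r x => Scheme.Modules.Hom.app_smul φ r x))
  naturality U V i := CommRingCat.hom_ext <| sym_ringHom_ext
    (fun r => by
      show symLift _ _ _ (symRes E _ (algebraMap _ _ r)) = B.presheaf.map _ (symLift _ _ _ (algebraMap _ _ r))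
      rw [symRes_algebraMap, symLift_algebraMap, symLift_algebraMap]
      exact CategoryTheory.congr_fun (B.str.naturality
        (homOfLE (Scheme.AffineZariskiSite.toOpens_mono i.unop.le)).op) r)
    (fun x => by
      show symLift _ _ _ (symRes E _ (SymmetricAlgebra.ι _ _ x)) =
        B.presheaf.map _ (symLift _ _ _ (SymmetricAlgebra.ι _ _ x))
      rw [symRes_ι, symLift_ι, symLift_ι]
      exact CategoryTheory.congr_fun (φ.mapPresheaf.naturality
        (homOfLE (Scheme.AffineZariskiSite.toOpens_mono i.unop.le)).op) x)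

theorem symStr_liftAff {B : RelSpec.QCAlg S} (φ : E ⟶ B.toModule) :
    symStr E ≫ liftAff φ = (Scheme.AffineZariskiSite.toOpensFunctor S).op.whiskerLeft B.str := by
  refine NatTrans.ext (funext fun U => CommRingCat.hom_ext (RingHom.ext fun (r : Γ(S, U.unop.toOpens)) => ?_))
  exact symLift_algebraMap _ _ _ r

/-- The module map restricted to affine opens. -/
def symGen (hE : Coh.IsQCoh E) :
    (Scheme.AffineZariskiSite.toOpensFunctor S).op ⋙ E.presheaf ⟶
      (Scheme.AffineZariskiSite.toOpensFunctor S).op ⋙ (symAlg E hE).toAb where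
  app U := AddCommGrpCat.ofHom
    ((((symFun E hE).affIso.inv.app U).hom.toAddMonoidHom).comp
      (SymmetricAlgebra.ι Γ(S, U.unop.toOpens) Γ(E, U.unop.toOpens)).toAddMonoidHom)
  naturality U V i := by
    refine AddCommGrpCat.hom_ext (AddMonoidHom.ext fun (x : Γ(E, U.unop.toOpens)) => ?_)
    show ((symFun E hE).affIso.inv.app V).hom (SymmetricAlgebra.ι _ _ _) =
      (symAlg E hE).presheaf.map _ (((symFun E hE).affIso.inv.app U).hom (SymmetricAlgebra.ι _ _ x))
    refine Eq.trans ?_ (CategoryTheory.congr_fun ((symFun E hE).affIso.inv.naturality i)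
      (SymmetricAlgebra.ι _ _ x))
    exact congrArg ((symFun E hE).affIso.inv.app V).hom
      (symRes_ι E (Scheme.AffineZariskiSite.toOpens_mono i.unop.le) x).symm

end Groth.Agent.SymAlgX
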